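import Cfsg.Agent.ClassicalGeometry.PSL2ElemOrder
set_option linter.all false

/-!
# `PSL(2, q)` in the defining characteristic: the facts used in rank one pushing up

`Data L p q` collects: Sylow `p`-subgroups have order `q`, are elementary abelian, are TI, any two
distinct ones generate `L`, and the normaliser of a Sylow `p`-subgroup acts irreducibly on it.
`data_psl`: it holds for `PSL(2, F)`, `#F = q` a power of `p`.
-/

set_option autoImplicit false
set_option linter.unusedSectionVars false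
set_option linter.unusedSimpArgs false

namespace Cfsg.Agent.H260.Psl

open Matrix Cfsg.Agent.LieClassical.SLTwoUnipotent Cfsg.Agent.ClassicalGeometry.PSL2Basic

/-- Facts on a rank one group in characteristic `p`. -/
structure Data (L : Type*) [Group L] (p q : ℕ) : Prop where
  card : ∀ P : Sylow p L, Nat.card P = q
  comm : ∀ P : Sylow p L, ∀ x ∈ P, ∀ y ∈ P, x * y = y * x
  expo : ∀ P : Sylow p L, ∀ x ∈ P, x ^ p = 1
  ti : ∀ P Q : Sylow p L, ∀ x : L, x ≠ 1 → x ∈ P → x ∈ Q → P = Q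
  gen : ∀ P Q : Sylow p L, P ≠ Q → (P : Subgroup L) ⊔ (Q : Subgroup L) = ⊤
  irr : ∀ P : Sylow p L, ∀ B : Subgroup L, B ≤ P →
    (∀ n ∈ Subgroup.normalizer ((P : Subgroup L) : Set L), ∀ b ∈ B, n * b * n⁻¹ ∈ B) →
      B = ⊥ ∨ B = P
  two : ∀ P : Sylow p L, ∃ Q : Sylow p L, Q ≠ P

section

variable {F : Type*} [Field F] [Fintype F] (p : ℕ) [Fact p.Prime] [CharP F p]

/-- The quotient map. -/
abbrev pr (F : Type*) [Field F] : SpecialLinearGroup (Fin 2) F →* ProjectiveSpecialLinearGroup (Fin 2) F :=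
  QuotientGroup.mk' (Subgroup.center (SpecialLinearGroup (Fin 2) F))

theorem pr_surj : Function.Surjective (pr F) := QuotientGroup.mk'_surjective _

/-- The standard Sylow subgroup. -/
noncomputable def P₀ (F : Type*) [Field F] [Fintype F] (p : ℕ) [Fact p.Prime] [CharP F p] :
    Sylow p (ProjectiveSpecialLinearGroup (Fin 2) F) :=
  (upperUnipSylowSL F p).mapSurjective (pr_surj (F := F))

theorem mem_P₀ (x : ProjectiveSpecialLinearGroup (Fin 2) F) :
    x ∈ P₀ F p ↔ ∃ a : F, pr F (u a) = x := by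
  have h : x ∈ P₀ F p ↔ x ∈ (upperUnipSL F).map (pr F) := Iff.rfl
  rw [h]
  constructor
  · rintro ⟨v, hv, rfl⟩
    obtain ⟨a, rfl⟩ := mem_upperUnipSL_iff_exists.mp hv
    exact ⟨a, rfl⟩
  · rintro ⟨a, rfl⟩
    exact ⟨u a, u_mem_upperUnipSL a, rfl⟩

theorem u_pr_inj {a b : F} (h : pr F (u a) = pr F (u b)) : a = b := by
  have h1 : (u a)⁻¹ * u b ∈ Subgroup.center (SpecialLinearGroup (Fin 2) F) := QuotientGroup.eq.mp h
  rw [← u_neg, ← u_add] at h1
  rcases mem_center_SL2_iff.mp h1 with h2 | h2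
  · have h3 := congrArg (fun g : SpecialLinearGroup (Fin 2) F => g 0 1) h2
    simp only [coe_u, coe_one] at h3
    simp at h3
    linear_combination -h3
  · have h3 := congrArg (fun g : SpecialLinearGroup (Fin 2) F => g 0 1) h2
    simp only [coe_u] at h3
    simp at h3
    linear_combination -h3

theorem card_P₀ : Nat.card (P₀ F p) = Fintype.card F := by
  rw [← Nat.card_eq_fintype_card]
  symm
  apply Nat.card_eq_of_bijective (fun a : F => (⟨pr F (u a), (mem_P₀ p _).mpr ⟨a, rfl⟩⟩ : P₀ F p))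
  constructor
  · intro a b h
    exact u_pr_inj (congrArg Subtype.val h)
  · rintro ⟨x, hx⟩
    obtain ⟨a, ha⟩ := (mem_P₀ p x).mp hx
    exact ⟨a, Subtype.ext ha⟩

theorem u_pow (a : F) (n : ℕ) : u a ^ n = u ((n : F) * a) := by
  induction n with
  | zero => simp [u_zero]
  | succ n ih => rw [pow_succ, ih, ← u_add]; congr 1; push_cast; ring

/-- the diagonal matrix `diag(t, t⁻¹)`. -/
def dg (t : F) (ht : t ≠ 0) : SpecialLinearGroup (Fin 2) F := ⟨!![t, 0; 0, t⁻¹], by simp [ht]⟩

theorem dg_conj (t : F) (ht : t ≠ 0) (x : F) : dg t ht * u x * (dg t ht)⁻¹ = u (t ^ 2 * x) := by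
  rw [mul_inv_eq_iff_eq_mul]
  apply ext_coe
  rw [coe_mul, coe_mul, coe_u, coe_u]
  ext i j
  fin_cases i <;> fin_cases j <;> simp [dg, Matrix.mul_apply, Fin.sum_univ_two, ht]
  · field_simp

theorem dg_mem_normalizer (t : F) (ht : t ≠ 0) :
    pr F (dg t ht) ∈ Subgroup.normalizer ((P₀ F p : Subgroup (ProjectiveSpecialLinearGroup (Fin 2) F)) :
      Set (ProjectiveSpecialLinearGroup (Fin 2) F)) := by
  have h1 : dg t ht ∈ Subgroup.normalizer (upperUnipSL F : Set (SpecialLinearGroup (Fin 2) F)) := by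
    rw [mem_normalizer_upperUnipSL_iff]
    simp [dg]
  exact Subgroup.le_normalizer_map (pr F) ⟨_, h1, rfl⟩

theorem irr_P₀ (B : Subgroup (ProjectiveSpecialLinearGroup (Fin 2) F)) (hB : B ≤ P₀ F p)
    (hn : ∀ n ∈ Subgroup.normalizer ((P₀ F p : Subgroup (ProjectiveSpecialLinearGroup (Fin 2) F)) :
      Set (ProjectiveSpecialLinearGroup (Fin 2) F)), ∀ b ∈ B, n * b * n⁻¹ ∈ B) :
    B = ⊥ ∨ B = P₀ F p := by
  -- closed under multiplication by squares
  have hsq : ∀ t : F, ∀ x : F, pr F (u x) ∈ B → pr F (u (t ^ 2 * x)) ∈ B := by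
    intro t x hx
    by_cases ht : t = 0
    · subst ht
      have : (0 : F) ^ 2 * x = 0 := by simp
      rw [this, u_zero, map_one]
      exact B.one_mem
    · have := hn _ (dg_mem_normalizer p t ht) _ hx
      rwa [← map_mul, ← map_inv, ← map_mul, dg_conj] at this
  have hadd : ∀ x y : F, pr F (u x) ∈ B → pr F (u y) ∈ B → pr F (u (x - y)) ∈ B := by
    intro x y hx hy
    rw [sub_eq_add_neg, u_add, u_neg, map_mul, map_inv]
    exact B.mul_mem hx (B.inv_mem hy)
  have hmul : ∀ c x : F, pr F (u x) ∈ B → pr F (u (c * x)) ∈ B := by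
    intro c x hx
    by_cases h2 : (2 : F) = 0
    · -- characteristic two: `c` is a square
      have : CharP F 2 := CharTwo.of_one_ne_zero_of_two_eq_zero one_ne_zero h2
      obtain ⟨t, ht⟩ := (FiniteField.isSquare_of_char_two (F := F) (by
        exact (CharP.ringChar_of_prime_eq_zero Nat.prime_two (by exact_mod_cast h2))) c)
      have := hsq t x hx
      rw [ht, ← sq]
      exact this
    · have h3 : c * x = ((c + 1) / 2) ^ 2 * x - ((c - 1) / 2) ^ 2 * x := by
        field_simp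
        ring
      rw [h3]
      exact hadd _ _ (hsq _ _ hx) (hsq _ _ hx)
  by_cases hbot : B = ⊥
  · exact Or.inl hbot
  · right
    obtain ⟨⟨b, hb⟩, hb1⟩ := Subgroup.ne_bot_iff_exists_ne_one.mp hbot
    obtain ⟨x, hx⟩ := (mem_P₀ p _).mp (hB hb)
    have hx0 : x ≠ 0 := by
      rintro rfl
      rw [u_zero, map_one] at hx
      exact hb1 (Subtype.ext hx.symm)
    apply le_antisymm hB
    intro y hy
    obtain ⟨z, rfl⟩ := (mem_P₀ p _).mp hy
    have h1 := hmul (z / x) x (by rw [hx]; exact hb)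
    rwa [div_mul_cancel₀ _ hx0] at h1

theorem conj_mem (g : ProjectiveSpecialLinearGroup (Fin 2) F) (P : Sylow p (ProjectiveSpecialLinearGroup (Fin 2) F))
    (hg : g • P₀ F p = P) (x : ProjectiveSpecialLinearGroup (Fin 2) F) : x ∈ P ↔ g⁻¹ * x * g ∈ P₀ F p := by
  subst hg
  have h1 : x ∈ g • P₀ F p ↔ x ∈ ((g • P₀ F p : Sylow p _) : Subgroup (ProjectiveSpecialLinearGroup (Fin 2) F)) :=
    Iff.rfl
  rw [h1, Sylow.coe_subgroup_smul, Subgroup.mem_pointwise_smul_iff_inv_smul_mem]
  have : (MulAut.conj g)⁻¹ • x = g⁻¹ * x * g := by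
    rw [← map_inv, MulAut.smul_def, MulAut.conj_apply, inv_inv]
  rw [this]
  rfl

end

/-- **`PSL(2, F)` in its own characteristic.** -/
theorem data_psl (F : Type*) [Field F] [Fintype F] (p : ℕ) [Fact p.Prime] [CharP F p] :
    Data (ProjectiveSpecialLinearGroup (Fin 2) F) p (Fintype.card F) where
  card := by
    intro P
    rw [← card_P₀ (F := F) p]
    exact Nat.card_congr (Sylow.equiv P (P₀ F p)).toEquiv
  comm := by
    intro P x hx y hy
    obtain ⟨g, hg⟩ := MulAction.exists_smul_eq (ProjectiveSpecialLinearGroup (Fin 2) F) (P₀ F p) P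
    rw [conj_mem p g P hg, mem_P₀] at hx hy
    obtain ⟨a, ha⟩ := hx
    obtain ⟨b, hb⟩ := hy
    have h1 : (g⁻¹ * x * g) * (g⁻¹ * y * g) = (g⁻¹ * y * g) * (g⁻¹ * x * g) := by
      rw [← ha, ← hb, ← map_mul, ← map_mul, ← u_add, ← u_add, add_comm]
    have h2 : g⁻¹ * (x * y) * g = g⁻¹ * (y * x) * g := by
      calc g⁻¹ * (x * y) * g = (g⁻¹ * x * g) * (g⁻¹ * y * g) := by group
        _ = (g⁻¹ * y * g) * (g⁻¹ * x * g) := h1
        _ = g⁻¹ * (y * x) * g := by group
    exact mul_left_cancel (mul_right_cancel h2)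
  expo := by
    intro P x hx
    obtain ⟨g, hg⟩ := MulAction.exists_smul_eq (ProjectiveSpecialLinearGroup (Fin 2) F) (P₀ F p) P
    rw [conj_mem p g P hg, mem_P₀] at hx
    obtain ⟨a, ha⟩ := hx
    have h1 : (g⁻¹ * x * g) ^ p = 1 := by
      rw [← ha, ← map_pow, u_pow, CharP.cast_eq_zero, zero_mul, u_zero, map_one]
    have h2 : (g⁻¹ * x * g) ^ p = g⁻¹ * x ^ p * g := by
      have := (conj_pow (i := p) (a := g⁻¹) (b := x))
      rw [inv_inv] at this
      exact this
    rw [h2] at h1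
    have h3 : g⁻¹ * x ^ p = g⁻¹ := by
      rw [mul_eq_one_iff_eq_inv] at h1
      exact h1
    exact (mul_eq_left.mp h3)
  ti := fun P Q x hx hP hQ => Cfsg.Agent.ClassicalGeometry.PSL2ElemOrder.sylow_eq_of_mem p P Q x hx hP hQ
  gen := by
    intro P Q hPQ
    obtain ⟨P', rfl⟩ : ∃ P' : Sylow p (SpecialLinearGroup (Fin 2) F), P'.mapSurjective (pr_surj (F := F)) = P := by
      exact Sylow.mapSurjective_surjective _ _ P
    obtain ⟨Q', rfl⟩ : ∃ Q' : Sylow p (SpecialLinearGroup (Fin 2) F), Q'.mapSurjective (pr_surj (F := F)) = Q := by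
      exact Sylow.mapSurjective_surjective _ _ Q
    have hne : P' ≠ Q' := fun h => hPQ (by rw [h])
    have h1 := sylow_sup_eq_top p P' Q' hne
    have h2 := congrArg (fun H => H.map (pr F)) h1
    simp only [Subgroup.map_sup] at h2
    rw [Subgroup.map_top_of_surjective _ pr_surj] at h2
    exact h2
  irr := by
    intro P B hB hn
    obtain ⟨g, hg⟩ := MulAction.exists_smul_eq (ProjectiveSpecialLinearGroup (Fin 2) F) (P₀ F p) P
    have key := irr_P₀ p (B.comap (MulAut.conj g).toMonoidHom) (by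
      intro x hx
      have h1 : g * x * g⁻¹ ∈ B := hx
      have h2 := (conj_mem p g P hg _).mp (hB h1)
      have h3 : g⁻¹ * (g * x * g⁻¹) * g = x := by group
      rwa [h3] at h2) (by
      intro n hnn b hb
      have h1 : g * b * g⁻¹ ∈ B := hb
      have h2 : g * n * g⁻¹ ∈ Subgroup.normalizer ((P : Subgroup (ProjectiveSpecialLinearGroup (Fin 2) F)) :
          Set (ProjectiveSpecialLinearGroup (Fin 2) F)) := by
        rw [Subgroup.mem_normalizer_iff] at hnn ⊢
        intro h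
        have e1 := conj_mem p g P hg h
        have e2 := conj_mem p g P hg (g * n * g⁻¹ * h * (g * n * g⁻¹)⁻¹)
        have e3 := hnn (g⁻¹ * h * g)
        have e4 : g⁻¹ * (g * n * g⁻¹ * h * (g * n * g⁻¹)⁻¹) * g = n * (g⁻¹ * h * g) * n⁻¹ := by group
        rw [e4] at e2
        exact e1.trans (e3.trans e2.symm)
      have h3 := hn _ h2 _ h1
      have h4 : g * n * g⁻¹ * (g * b * g⁻¹) * (g * n * g⁻¹)⁻¹ = g * (n * b * n⁻¹) * g⁻¹ := by group
      rw [h4] at h3
      exact h3)
    rcases key with key | key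
    · left
      rw [eq_bot_iff]
      intro x hx
      have h1 : g⁻¹ * x * g ∈ B.comap (MulAut.conj g).toMonoidHom := by
        change g * (g⁻¹ * x * g) * g⁻¹ ∈ B
        have : g * (g⁻¹ * x * g) * g⁻¹ = x := by group
        rwa [this]
      rw [key, Subgroup.mem_bot] at h1
      rw [Subgroup.mem_bot]
      have h2 : x = g * (g⁻¹ * x * g) * g⁻¹ := by group
      rw [h2, h1]
      group
    · right
      apply le_antisymm hB
      intro x hx
      have h1 : g⁻¹ * x * g ∈ (P₀ F p : Subgroup (ProjectiveSpecialLinearGroup (Fin 2) F)) := (conj_mem p g P hg x).mp hx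
      rw [← key] at h1
      have h2 : g * (g⁻¹ * x * g) * g⁻¹ ∈ B := h1
      have h3 : g * (g⁻¹ * x * g) * g⁻¹ = x := by group
      rwa [h3] at h2
  two := by
    have h0 : ∃ w : ProjectiveSpecialLinearGroup (Fin 2) F, w • P₀ F p ≠ P₀ F p := by
      refine ⟨pr F (l 1), ?_⟩
      intro h
      have h1 : pr F (l 1) * pr F (u 1) * (pr F (l 1))⁻¹ ∈ P₀ F p := by
        rw [← h, conj_mem p (pr F (l 1)) _ rfl]
        have : (pr F (l 1))⁻¹ * (pr F (l 1) * pr F (u 1) * (pr F (l 1))⁻¹) * pr F (l 1) = pr F (u 1) := by group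
        rw [this, mem_P₀]
        exact ⟨1, rfl⟩
      rw [mem_P₀] at h1
      obtain ⟨a, ha⟩ := h1
      rw [← map_mul, ← map_inv, ← map_mul] at ha
      have h2 : (u a)⁻¹ * (l 1 * u 1 * (l 1)⁻¹) ∈ Subgroup.center (SpecialLinearGroup (Fin 2) F) :=
        QuotientGroup.eq.mp ha
      have h4 : ((l 1 * u 1 * (l 1)⁻¹ : SpecialLinearGroup (Fin 2) F) : Matrix (Fin 2) (Fin 2) F) 1 0 = -1 := by
        rw [← l_neg, coe_mul, coe_mul, coe_l, coe_u, coe_l]
        simp
      rcases mem_center_SL2_iff.mp h2 with h3 | h3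
      · rw [inv_mul_eq_one] at h3
        rw [← h3] at h4
        simp [coe_u] at h4
      · rw [inv_mul_eq_iff_eq_mul] at h3
        rw [h3] at h4
        simp [coe_u] at h4
    obtain ⟨w, hw⟩ := h0
    intro P
    obtain ⟨g, hg⟩ := MulAction.exists_smul_eq (ProjectiveSpecialLinearGroup (Fin 2) F) (P₀ F p) P
    refine ⟨g • w • P₀ F p, ?_⟩
    rw [← hg]
    intro h
    exact hw (MulAction.injective g h)

end Cfsg.Agent.H260.Psl
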